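import Groth.Agent.H83.HopfPts.Rosenlicht
import Groth.Agent.H66.UnipBC
import Groth.Agent.H66.DiagDescent
import Groth.Agent.H21.SmoothRed
import Groth.Agent.H52.FBase.GeomPt
import Groth.Prelude.Def_SGA3b
import Mathlib

/-! Morphisms from smooth connected unipotent groups to groups of multiplicative type are constant. -/

set_option autoImplicit false

universe u

open TensorProduct

namespace Groth.Agent.H66.MultType

/-- An idempotent of `C ⊗ L`, `L` finite, which vanishes at a point of a connected `C` is zero. -/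
theorem idem_eq_zero_of_finite {k : Type u} [Field k] {C : Type u} [CommRing C] [Algebra k C]
    (hconn : ∀ e : C, IsIdempotentElem e → e = 0 ∨ e = 1) (x₀ : C →ₐ[k] k)
    (L : Type u) [CommRing L] [Algebra k L] [Module.Finite k L] {e : C ⊗[k] L} (he : IsIdempotentElem e)
    (h0 : Algebra.TensorProduct.map x₀ (AlgHom.id k L) e = 0) : e = 0 := by
  classical
  let b := Module.Free.chooseBasis k L
  let bC : Module.Basis _ C (C ⊗[k] L) := Algebra.TensorProduct.basis C b
  let M := Algebra.leftMulMatrix bC (1 - e)
  have hM : IsIdempotentElem M := he.one_sub.map _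
  have hd : IsIdempotentElem M.det := by
    show M.det * M.det = M.det
    rw [← Matrix.det_mul, hM.eq]
  let θ : C ⊗[k] L →ₐ[k] L :=
    (Algebra.TensorProduct.lid k L).toAlgHom.comp (Algebra.TensorProduct.map x₀ (AlgHom.id k L))
  have hrepr : ∀ (z : C ⊗[k] L) i, x₀ (bC.repr z i) = b.repr (θ z) i := by
    intro z i
    induction z using TensorProduct.induction_on with
    | zero => simp
    | add p q hp hq => simp only [map_add, Finsupp.add_apply, hp, hq]
    | tmul c l =>
      simp [bC, θ, Algebra.TensorProduct.basis_repr_tmul, Finsupp.smul_apply, map_smul, mul_comm]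
  have hθb : ∀ i, θ (bC i) = b i := by
    intro i
    simp [θ, bC]
  have hmap : M.map x₀ = 1 := by
    have hθe : θ (1 - e) = 1 := by
      rw [map_sub, map_one]
      show 1 - (Algebra.TensorProduct.lid k L) (Algebra.TensorProduct.map x₀ (AlgHom.id k L) e) = 1
      rw [h0, map_zero, sub_zero]
    ext i j
    rw [Matrix.map_apply]
    show x₀ (Algebra.leftMulMatrix bC (1 - e) i j) = _
    rw [Algebra.leftMulMatrix_eq_repr_mul, hrepr, map_mul, hθe, one_mul, hθb,
      b.repr_self, Finsupp.single_apply, Matrix.one_apply]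
    exact ite_cond_congr (propext eq_comm)
  rcases hconn _ hd with h | h
  · exfalso
    have h1 := congrArg x₀ h
    rw [AlgHom.map_det, map_zero] at h1
    rw [show x₀.mapMatrix M = 1 from hmap, Matrix.det_one] at h1
    exact one_ne_zero h1
  · have hu : IsUnit M := (Matrix.isUnit_iff_isUnit_det M).2 (h ▸ isUnit_one)
    have h1 : M = 1 := hu.mul_eq_left.1 hM.eq
    have h2 : 1 - e = 1 := Algebra.leftMulMatrix_injective bC (h1.trans (map_one _).symm)
    exact sub_eq_self.1 h2

/-- A connected affine group stays connected over the algebraic closure. -/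
theorem idem_baseChange_algClosure {k : Type u} [Field k] {C : Type u} [CommRing C] [Algebra k C]
    (hconn : ∀ e : C, IsIdempotentElem e → e = 0 ∨ e = 1) (x₀ : C →ₐ[k] k)
    (K : Type u) [Field K] [Algebra k K] [Algebra.IsAlgebraic k K] :
    ∀ e : K ⊗[k] C, IsIdempotentElem e → e = 0 ∨ e = 1 := by
  intro e he
  suffices key : ∀ e : K ⊗[k] C, IsIdempotentElem e →
      Algebra.TensorProduct.map (AlgHom.id k K) x₀ e = 0 → e = 0 by
    have hK : ∀ z : K ⊗[k] k, IsIdempotentElem z → z = 0 ∨ z = 1 := by
      intro z hz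
      rcases IsIdempotentElem.iff_eq_zero_or_one.1 (hz.map (Algebra.TensorProduct.rid k K K)) with h | h
      · exact Or.inl ((Algebra.TensorProduct.rid k K K).injective (h.trans (map_zero _).symm))
      · exact Or.inr ((Algebra.TensorProduct.rid k K K).injective (h.trans (map_one _).symm))
    rcases hK _ (he.map (Algebra.TensorProduct.map (AlgHom.id k K) x₀)) with h | h
    · exact Or.inl (key e he h)
    · refine Or.inr (sub_eq_zero.1 (key _ he.one_sub ?_)).symm
      rw [map_sub, map_one, h, sub_self]
  intro e he h0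
  obtain ⟨S, hS⟩ := TensorProduct.exists_finset e
  let F : IntermediateField k K := IntermediateField.adjoin k (Prod.fst '' (S : Set (K × C)))
  haveI : FiniteDimensional k F :=
    IntermediateField.finiteDimensional_adjoin (fun x _ => Algebra.IsAlgebraic.isAlgebraic x |>.isIntegral)
  let ι : C ⊗[k] F →ₐ[k] K ⊗[k] C :=
    (Algebra.TensorProduct.comm k C K).toAlgHom.comp (Algebra.TensorProduct.map (AlgHom.id k C) F.val)
  have hι : Function.Injective ι :=
    (Algebra.TensorProduct.comm k C K).injective.comp
      (Module.Flat.lTensor_preserves_injective_linearMap F.val.toLinearMap Subtype.val_injective)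
  obtain ⟨e', rfl⟩ : ∃ e', ι e' = e := by
    refine (AlgHom.mem_range ι).1 ?_
    rw [hS]
    refine sum_mem fun w hw => ⟨w.2 ⊗ₜ[k] (⟨w.1, IntermediateField.subset_adjoin k _ ⟨w, hw, rfl⟩⟩ : F), ?_⟩
    simp [ι]
  have he' : IsIdempotentElem e' := hι (by rw [map_mul]; exact he)
  suffices h1 : Algebra.TensorProduct.map x₀ (AlgHom.id k F) e' = 0 by
    rw [idem_eq_zero_of_finite hconn x₀ F he' h1, map_zero]
  have hinj : Function.Injective ((Algebra.TensorProduct.comm k k K).toAlgHom.comp
      (Algebra.TensorProduct.map (AlgHom.id k k) F.val)) :=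
    (Algebra.TensorProduct.comm k k K).injective.comp
      (Module.Flat.lTensor_preserves_injective_linearMap F.val.toLinearMap Subtype.val_injective)
  refine hinj ?_
  rw [map_zero, ← h0]
  show _ = Algebra.TensorProduct.map (AlgHom.id k K) x₀ (ι e')
  clear he hS h0 hι he'
  induction e' using TensorProduct.induction_on with
  | zero => simp only [map_zero]
  | add p q hp hq => simp only [map_add, hp, hq]
  | tmul c l => simp [ι]

/-- Every morphism from a smooth connected unipotent group to a group of multiplicative type is constant. -/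
theorem algHom_const (k : Type u) [Field k] (C B : Type u) [CommRing C] [HopfAlgebra k C] [Algebra.FiniteType k C]
    [Algebra.FormallySmooth k C] (hconn : ∀ e : C, IsIdempotentElem e → e = 0 ∨ e = 1)
    (hU : HopfRep.IsUnipotent k C) [CommRing B] [HopfAlgebra k B]
    (hB : SGA3b.IsMultTypeConst k B) (f : B →ₐ[k] C) :
    ∀ b : B, f b = algebraMap k C (Bialgebra.counitAlgHom k C (f b)) := by
  classical
  obtain ⟨R', _, _, hff, M, _, ⟨θ⟩⟩ := hB
  haveI : Nontrivial R' := by
    refine not_subsingleton_iff_nontrivial.1 fun hsub => ?_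
    exact one_ne_zero ((FaithfulSMul.algebraMap_injective k R') (Subsingleton.elim
      (algebraMap k R' 1) (algebraMap k R' 0)))
  obtain ⟨m, hm⟩ := Ideal.exists_maximal R'
  letI : Field (R' ⧸ m) := Ideal.Quotient.field m
  let Ω := AlgebraicClosure (R' ⧸ m)
  let c : R' →ₐ[k] Ω := (IsScalarTower.toAlgHom k (R' ⧸ m) Ω).comp (Ideal.Quotient.mkₐ k m)
  -- `Ω ⊗ B` is spanned by group-like elements
  let W : Submodule Ω (Ω ⊗[k] B) := Submodule.span Ω {g | IsGroupLikeElem Ω g}
  have hW : ∀ b : B, (1 : Ω) ⊗ₜ[k] b ∈ W := by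
    suffices h : ∀ z : R' ⊗[k] B, Algebra.TensorProduct.map c (AlgHom.id k B) z ∈ W by
      intro b
      simpa using h ((1 : R') ⊗ₜ[k] b)
    intro z
    rw [← θ.symm_apply_apply z]
    generalize θ z = y
    induction y using MonoidAlgebra.induction_linear with
    | zero => simp only [map_zero]; exact zero_mem _
    | add p q hp hq => simp only [map_add]; exact add_mem hp hq
    | single g r =>
      rw [show MonoidAlgebra.single g r = algebraMap R' _ r * MonoidAlgebra.single g (1 : R') by
          rw [← Algebra.smul_def, MonoidAlgebra.smul_single, smul_eq_mul, mul_one], map_mul, map_mul,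
        show θ.symm (algebraMap R' _ r) = algebraMap R' (R' ⊗[k] B) r from
          AlgHomClass.commutes θ.symm r,
        show Algebra.TensorProduct.map c (AlgHom.id k B) (algebraMap R' (R' ⊗[k] B) r) =
          algebraMap Ω (Ω ⊗[k] B) (c r) by simp [Algebra.TensorProduct.algebraMap_apply],
        ← Algebra.smul_def]
      refine Submodule.smul_mem _ _ (Submodule.subset_span ?_)
      have h1 : IsGroupLikeElem R' (θ.symm (MonoidAlgebra.single g (1 : R'))) :=
        (MonoidAlgebra.isGroupLikeElem_single_one g).map θ.symm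
      refine ⟨?_, DiagDescent.gl_iff.1 ((DiagDescent.gl_iff.2 h1.comul_eq_tmul_self).map c)⟩
      have h2 : ∀ z : R' ⊗[k] B, CoalgebraStruct.counit (R := Ω) (Algebra.TensorProduct.map c (AlgHom.id k B) z) =
          c (CoalgebraStruct.counit (R := R') z) := by
        intro z
        induction z using TensorProduct.induction_on with
        | zero => simp
        | add p q hp hq => simp only [map_add, hp, hq]
        | tmul r' b => simp [Algebra.smul_def, map_mul]
      rw [h2, h1.counit_eq_one, map_one]
  -- `Ω ⊗ C` is a domain with unipotent comultiplication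
  haveI : Algebra.FinitePresentation k C := Algebra.FinitePresentation.of_finiteType.mp inferInstance
  haveI : Algebra.Smooth k C := ⟨inferInstance, inferInstance⟩
  let K := AlgebraicClosure k
  haveI : IsReduced (K ⊗[k] C) := H21.SmoothRed.isReduced K (K ⊗[k] C)
  haveI := H83.HopfPts.isDomain_of_connected K
    (idem_baseChange_algClosure hconn (Bialgebra.counitAlgHom k C) K)
  letI : Algebra K Ω := (IsAlgClosed.lift : K →ₐ[k] Ω).toRingHom.toAlgebra
  haveI : IsScalarTower k K Ω :=
    IsScalarTower.of_algebraMap_eq fun r => ((IsAlgClosed.lift : K →ₐ[k] Ω).commutes r).symm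
  haveI := H52.FBase.GeomPt.isDomain_tensor_of_isAlgClosed (k := K) (A := Ω) (B := K ⊗[k] C)
  haveI : IsDomain (Ω ⊗[k] C) :=
    (Algebra.TensorProduct.cancelBaseChange k K K Ω C).symm.injective.isDomain
      (Algebra.TensorProduct.cancelBaseChange k K K Ω C).symm.toAlgHom.toRingHom
  have hconnΩ : ∀ e : Ω ⊗[k] C, IsIdempotentElem e → e = 0 ∨ e = 1 :=
    fun e he => IsIdempotentElem.iff_eq_zero_or_one.1 he
  -- conclusion
  let F : Ω ⊗[k] B →ₐ[Ω] Ω ⊗[k] C := Algebra.TensorProduct.map (AlgHom.id Ω Ω) f
  let εC := Bialgebra.counitAlgHom Ω (Ω ⊗[k] C)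
  have key : ∀ z ∈ W, F z = algebraMap Ω (Ω ⊗[k] C) (εC (F z)) := by
    intro z hz
    induction hz using Submodule.span_induction with
    | zero => simp
    | add p q _ _ hp hq => simp only [map_add, ← hp, ← hq]
    | smul r p _ hp =>
      rw [map_smul, map_smul, smul_eq_mul, map_mul, ← hp, Algebra.smul_def]
    | mem g hg =>
      have hu : IsUnit (F g) := hg.isUnit.map F
      have hcu : IsUnit (εC (F g)) := hu.map εC
      set v := algebraMap Ω (Ω ⊗[k] C) (εC (F g))⁻¹ * F g with hv
      have hεv : εC v = 1 := by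
        rw [hv, map_mul, AlgHom.commutes, Algebra.algebraMap_self, RingHom.id_apply]
        exact inv_mul_cancel₀ hcu.ne_zero
      have hvu : IsUnit v := ((IsUnit.inv hcu).map _).mul hu
      have hgl : IsGroupLikeElem Ω v :=
        ⟨hεv, H83.HopfPts.comul_unit (k := Ω) hconnΩ hvu hεv⟩
      have hv1 : v = 1 := UnipBC.eq_one_of_isGroupLike (UnipBC.isUnipotent_baseChange hU) hgl
      calc F g = algebraMap Ω (Ω ⊗[k] C) (εC (F g)) * v := by
            rw [hv, ← mul_assoc, ← map_mul, mul_inv_cancel₀ hcu.ne_zero, map_one, one_mul]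
        _ = _ := by rw [hv1, mul_one]
  intro b
  have h := key _ (hW b)
  rw [show F ((1 : Ω) ⊗ₜ[k] b) = (1 : Ω) ⊗ₜ[k] f b by simp [F]] at h
  refine Algebra.TensorProduct.includeRight_injective (A := Ω) (B := C) (algebraMap k Ω).injective ?_
  rw [Algebra.TensorProduct.includeRight_apply, h, AlgHom.commutes, IsScalarTower.algebraMap_apply k Ω (Ω ⊗[k] C)]
  congr 1
  simp [εC, Algebra.smul_def]

end Groth.Agent.H66.MultType
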